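import Groth.Agent.H56.Reg.Twist
import Groth.Agent.H95.SerreFin

/-!
helper56: Castelnuovo–Mumford regularity on `P^n_k`: the easy implications.
* `isMRegular_cokernel_of_mono_twist` (row S16627): `F` `m`-regular, `F(-1) ↪ F` ⇒ cokernel `m`-regular.
* `isMRegular_of_epi_pow`: `O(-m)^b ↠ F` with `(m+1)`-regular kernel ⇒ `F` `m`-regular.
-/

set_option autoImplicit false
universe u
open CategoryTheory CategoryTheory.Limits AlgebraicGeometry

namespace Groth.Agent.H56.Reg

open Groth.Agent.Lead.FiniteLES Groth.Agent.H86.Serre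

variable (n : ℕ) (k : Type u) [Field k]

/-- vanishing above the dimension for twists -/
lemma subsingleton_HH_tw_of_gt (F : (CohB1.ProjSpace n k).Modules) (hF : Coh.IsCoh F) (j : ℤ)
    (q : ℕ) (hq : n < q) : Subsingleton (Coh.HH (CohB1.ProjSpace n k) (tw n k F j) q) :=
  subsingleton_of_gt n k F hF j q hq

/-- the regularity condition in degree `i + 1`, at level `m + 1`, or vanishing above `n` -/
lemma subsingleton_succ_of_isMRegular (F : (CohB1.ProjSpace n k).Modules) (hF : Coh.IsCoh F)
    (m : ℤ) (h : Curv2.IsMRegular k n F (m + 1)) (i : ℕ) :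
    Subsingleton (Coh.HH (CohB1.ProjSpace n k) (tw n k F (m - i)) (i + 1)) := by
  by_cases hlt : i + 1 ≤ n
  · have h1 := h (i + 1) (by omega) hlt
    have e : m + 1 - ((i + 1 : ℕ) : ℤ) = m - i := by push_cast; ring
    rw [e] at h1
    exact h1
  · exact subsingleton_HH_tw_of_gt n k F hF _ _ (by omega)

/-- **S16627**: the cokernel of a monomorphism `F(-1) → F` with `F` `m`-regular is `m`-regular -/
theorem isMRegular_cokernel_of_mono_twist (F : (CohB1.ProjSpace n k).Modules) (hF : Coh.IsCoh F)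
    (m : ℤ) (hreg : Curv2.IsMRegular k n F m)
    (ι : CohB1.tensorMod F (Twist.twistProjSpace n k (-1)) ⟶ F) [Mono ι] :
    Curv2.IsMRegular k n (cokernel ι) m := by
  intro i hi1 hin
  let E : ShortComplex (CohB1.ProjSpace n k).Modules :=
    ShortComplex.mk ι (cokernel.π ι) (cokernel.condition ι)
  have hE : E.ShortExact :=
    { exact := ShortComplex.exact_of_g_is_cokernel _ (cokernelIsCokernel ι)
      mono_f := inferInstanceAs (Mono ι)
      epi_g := inferInstanceAs (Epi (cokernel.π ι)) }
  have hT := shortExact_tw n k E hE (m - i)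
  have h₂ : Subsingleton (Coh.HH (CohB1.ProjSpace n k)
      (E.map (DCoh.tensorRightMod (Twist.twistProjSpace n k (m - i)))).X₂ i) := hreg i hi1 hin
  have h₁ : Subsingleton (Coh.HH (CohB1.ProjSpace n k)
      (E.map (DCoh.tensorRightMod (Twist.twistProjSpace n k (m - i)))).X₁ (i + 1)) := by
    refine subsingleton_of_iso (twTwIso' n k F (-1) (m - i) (m - 1 - i) (by ring)).symm (i + 1) ?_
    have h1 : Curv2.IsMRegular k n F (m - 1 + 1) := by rw [sub_add_cancel]; exact hreg
    exact subsingleton_succ_of_isMRegular n k F hF (m - 1) h1 i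
  exact subsingleton_X₃ _ hT i h₂ h₁

/-- `O(-m)^b ↠ F` with `(m+1)`-regular kernel ⇒ `F` is `m`-regular -/
theorem isMRegular_of_epi_pow (F : (CohB1.ProjSpace n k).Modules) (hF : Coh.IsCoh F) (m : ℤ)
    (b : ℕ) (φ : (∐ fun _ : Fin b => Twist.twistProjSpace n k (-m)) ⟶ F) [Epi φ]
    (hK : Curv2.IsMRegular k n (kernel φ) (m + 1)) : Curv2.IsMRegular k n F m := by
  intro i hi1 hin
  let E : ShortComplex (CohB1.ProjSpace n k).Modules :=
    ShortComplex.mk (kernel.ι φ) φ (kernel.condition φ)
  have hE : E.ShortExact :=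
    { exact := ShortComplex.exact_of_f_is_kernel _ (kernelIsKernel φ)
      mono_f := inferInstanceAs (Mono (kernel.ι φ))
      epi_g := inferInstanceAs (Epi φ) }
  have hpow : Coh.IsCoh (∐ fun _ : Fin b => Twist.twistProjSpace n k (-m)) :=
    Groth.Agent.Lead.SigmaSplit.isCoh_pow _ (Groth.Agent.H95.SerreFin.isCoh_twist n k _) b
  have hKc : Coh.IsCoh (kernel φ) := Groth.Agent.S0026.isCoh_kernel _ _ φ hpow hF
  have hT := shortExact_tw n k E hE (m - i)
  have h₂ : Subsingleton (Coh.HH (CohB1.ProjSpace n k)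
      (E.map (DCoh.tensorRightMod (Twist.twistProjSpace n k (m - i)))).X₂ i) :=
    subsingleton_HH_tw_pow n k (-m) (m - i) b i (fun h => by omega) (fun h => by omega)
  have h₁ : Subsingleton (Coh.HH (CohB1.ProjSpace n k)
      (E.map (DCoh.tensorRightMod (Twist.twistProjSpace n k (m - i)))).X₁ (i + 1)) :=
    subsingleton_succ_of_isMRegular n k (kernel φ) hKc m hK i
  exact subsingleton_X₃ _ hT i h₂ h₁

end Groth.Agent.H56.Reg
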