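import Groth.Agent.H56.Reg.Twist
import Groth.Agent.H56.ProjDual.DegZero

/-!
helper56: globally generated modules and `H^0`: a morphism onto a globally generated module which is
surjective on `H^0` is an epimorphism; a module with finitely generated `H^0` receives a morphism from
a finite free module which is surjective on `H^0`.
-/

set_option autoImplicit false
universe u
open CategoryTheory CategoryTheory.Limits AlgebraicGeometry Opposite

namespace Groth.Agent.H56.Reg

open Groth.Agent.Lead.FiniteLES Groth.Agent.H18 Groth.Agent.H56.ProjDual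

variable {X : Scheme.{u}}

/-- a morphism into a globally generated module which is surjective on `H^0` is an epimorphism -/
theorem epi_of_surjective_H0 {N M : X.Modules} (hM : Curv2.IsGloballyGenerated M) (q : N ⟶ M)
    (hq : Function.Surjective (HHmap q 0)) : Epi q := by
  obtain ⟨ι, p, hp⟩ := hM
  have hzero : p ≫ cokernel.π q = 0 := by
    apply Sigma.hom_ext
    intro i
    refine Eq.trans ?_ comp_zero.symm
    let u : Coh.structureModule X ⟶ M := Sigma.ι (fun _ : ι => SheafOfModules.unit X.ringCatSheaf) i ≫ p
    change u ≫ cokernel.π q = 0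
    apply unit_hom_ext
    let s : M.val.obj (op (⊤ : X.Opens)) := u.val.app (op ⊤) (1 : Γ(X, (⊤ : X.Opens)))
    obtain ⟨z, hz⟩ := hq ((HH0.equiv M).symm s)
    have h1 : (cokernel.π q).val.app (op ⊤) s = 0 := by
      have h2 : s = HH0.equiv M (HHmap q 0 z) := by rw [hz, AddEquiv.apply_symm_apply]
      rw [h2, ← equiv_HHmap, ← LinearMap.comp_apply, ← HHmap_comp, cokernel.condition, HHmap_zero]
      simp
    have h0 : (0 : Coh.structureModule X ⟶ cokernel q).val.app (op ⊤)
        (1 : Γ(X, (⊤ : X.Opens))) = 0 := rfl
    rw [h0]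
    exact h1
  have hπ : cokernel.π q = 0 := (cancel_epi p).mp (hzero.trans comp_zero.symm)
  exact Preadditive.epi_of_cokernel_zero hπ

/-- a module with finitely generated `H^0` receives a morphism from a finite free module which is
surjective on `H^0` -/
theorem exists_pow_surjective_H0 (M : X.Modules) (b : ℕ) (x : Fin b → Coh.HH X M 0)
    (hx : Submodule.span (Coh.Γtop X) (Set.range x) = ⊤) :
    ∃ q : (∐ fun _ : Fin b => Coh.structureModule X) ⟶ M, Function.Surjective (HHmap q 0) := by
  let σ : Fin b → Γ(M, (⊤ : X.Opens)) := fun j => HH0.equiv M (x j)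
  let q : (∐ fun _ : Fin b => Coh.structureModule X) ⟶ M :=
    Sigma.desc (fun j => homOfSection M (σ j))
  refine ⟨q, ?_⟩
  rw [← LinearMap.range_eq_top, eq_top_iff, ← hx, Submodule.span_le]
  rintro _ ⟨j, rfl⟩
  let one : (Coh.structureModule X).val.obj (op (⊤ : X.Opens)) := (1 : Coh.Γtop X)
  let x₁ : Coh.HH X (Coh.structureModule X) 0 := (HH0.equiv (Coh.structureModule X)).symm one
  refine ⟨HHmap (Sigma.ι (fun _ : Fin b => Coh.structureModule X) j) 0 x₁, ?_⟩
  rw [← LinearMap.comp_apply, ← HHmap_comp, Sigma.ι_desc]
  apply (HH0.equiv M).injective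
  rw [equiv_HHmap, AddEquiv.apply_symm_apply]
  refine (homOfSection_app_one M (σ j) ⊤).trans ?_
  exact mres_self M _ _

end Groth.Agent.H56.Reg
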