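import Groth.Agent.H56.Reg.Basic
import Groth.Agent.H56.Reg.GlobGen

/-!
helper56: `m`-regularity via linear resolutions, one step (row S11301):
`F` is `m`-regular iff there is an epimorphism `O(-m)^b ↠ F` with `(m+1)`-regular kernel.
The implication `⇒` uses global generation of `F(m)` (row S1647) as a hypothesis.
-/

set_option autoImplicit false
universe u
open CategoryTheory CategoryTheory.Limits AlgebraicGeometry Opposite

namespace Groth.Agent.H56.Reg

open Groth.Agent.Lead.FiniteLES Groth.Agent.H86.Serre Groth.Agent.H66.ProjCohQuot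

variable (n : ℕ) (k : Type u) [Field k]

/-- regularity is invariant under isomorphisms -/
lemma isMRegular_of_iso {F G : (CohB1.ProjSpace n k).Modules} (e : F ≅ G) (m : ℤ)
    (h : Curv2.IsMRegular k n F m) : Curv2.IsMRegular k n G m := fun i hi1 hin =>
  subsingleton_of_iso (tensorIsoLeft e _) i (h i hi1 hin)

/-- vanishing of the cohomology of `(O^r)(b)` -/
lemma subsingleton_HH_tw_pow_unit (b : ℤ) (r : ℕ) (q : ℕ) (h₀ : ¬ (q = 0 ∧ 0 ≤ b))
    (hn : ¬ (q = n ∧ b ≤ -((n : ℤ) + 1))) :
    Subsingleton (Coh.HH (CohB1.ProjSpace n k)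
      (tw n k (∐ fun _ : Fin r => Coh.structureModule (CohB1.ProjSpace n k)) b) q) := by
  refine subsingleton_of_iso (tensorRightModSigmaIso (Twist.twistProjSpace n k b)
    (fun _ : Fin r => Coh.structureModule (CohB1.ProjSpace n k))).symm q ?_
  refine subsingleton_sigma _ q (fun _ => ?_)
  exact subsingleton_of_iso (unitorL (Twist.twistProjSpace n k b)).symm q
    (Groth.Agent.S0844.result k n b q h₀ hn)

/-- vanishing of the cohomology of `O^r` -/
lemma subsingleton_HH_pow_unit (r : ℕ) (q : ℕ) (h₀ : q ≠ 0) :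
    Subsingleton (Coh.HH (CohB1.ProjSpace n k)
      (∐ fun _ : Fin r => Coh.structureModule (CohB1.ProjSpace n k)) q) := by
  refine subsingleton_sigma _ q (fun _ => ?_)
  exact subsingleton_of_iso
    (Groth.Agent.H18.nonempty_twist_zero_iso (CohB1.polyGrading n k)).some q
    (Groth.Agent.S0844.result k n 0 q (fun h => h₀ h.1) (fun h => by
      have := h.2
      have h2 : (0 : ℤ) ≤ (n : ℤ) := Int.natCast_nonneg n
      omega))

/-- the kernel of `O^b ↠ F(m)`, surjective on `H^0`, twisted by `-m`, is `(m+1)`-regular -/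
theorem isMRegular_tw_kernel (F : (CohB1.ProjSpace n k).Modules) (m : ℤ)
    (hreg : Curv2.IsMRegular k n F m) (b : ℕ)
    (q : (∐ fun _ : Fin b => Coh.structureModule (CohB1.ProjSpace n k)) ⟶ tw n k F m) [Epi q]
    (hq : Function.Surjective (HHmap q 0)) :
    Curv2.IsMRegular k n (tw n k (kernel q) (-m)) (m + 1) := by
  intro i hi1 hin
  let E : ShortComplex (CohB1.ProjSpace n k).Modules :=
    ShortComplex.mk (kernel.ι q) q (kernel.condition q)
  have hE : E.ShortExact :=
    { exact := ShortComplex.exact_of_f_is_kernel _ (kernelIsKernel q)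
      mono_f := inferInstanceAs (Mono (kernel.ι q))
      epi_g := inferInstanceAs (Epi q) }
  refine subsingleton_of_iso (twTwIso' n k (kernel q) (-m) (m + 1 - i) (1 - i) (by ring)).symm i ?_
  obtain ⟨i', rfl⟩ : ∃ i', i = i' + 1 := ⟨i - 1, by omega⟩
  rcases Nat.eq_zero_or_pos i' with rfl | hi'
  · -- `i = 1`
    have h1 : Subsingleton (Coh.HH (CohB1.ProjSpace n k) (kernel q) 1) :=
      subsingleton_X₁_one E hE hq (subsingleton_HH_pow_unit n k b 1 one_ne_zero)
    have e0 : (1 : ℤ) - ((0 + 1 : ℕ) : ℤ) = 0 := by norm_num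
    exact subsingleton_of_iso ((twCongr n k (kernel q) e0) ≪≫ twZeroIso n k (kernel q)).symm 1 h1
  · have hT := shortExact_tw n k E hE (1 - ((i' + 1 : ℕ) : ℤ))
    have h₃ : Subsingleton (Coh.HH (CohB1.ProjSpace n k)
        (E.map (DCoh.tensorRightMod (Twist.twistProjSpace n k (1 - ((i' + 1 : ℕ) : ℤ))))).X₃ i') := by
      refine subsingleton_of_iso
        (twTwIso' n k F m (1 - ((i' + 1 : ℕ) : ℤ)) (m - i') (by push_cast; ring)).symm i' ?_
      exact hreg i' hi' (by omega)
    have h₂ : Subsingleton (Coh.HH (CohB1.ProjSpace n k)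
        (E.map (DCoh.tensorRightMod (Twist.twistProjSpace n k (1 - ((i' + 1 : ℕ) : ℤ))))).X₂
          (i' + 1)) :=
      subsingleton_HH_tw_pow_unit n k _ b (i' + 1) (fun h => by omega) (fun h => by
        have := h.2
        push_cast at this
        omega)
    exact subsingleton_X₁_succ _ hT i' h₃ h₂

/-- from `O^b ↠ F(m)` to `O(-m)^b ↠ F`, keeping track of the kernel -/
theorem exists_epi_pow_twist_kernel_iso (F : (CohB1.ProjSpace n k).Modules) (m : ℤ) (b : ℕ)
    (q : (∐ fun _ : Fin b => Coh.structureModule (CohB1.ProjSpace n k)) ⟶ tw n k F m) [Epi q] :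
    ∃ (φ : (∐ fun _ : Fin b => Twist.twistProjSpace n k (-m)) ⟶ F), Epi φ ∧
      Nonempty (tw n k (kernel q) (-m) ≅ kernel φ) := by
  let N := Twist.twistProjSpace n k (-m)
  let E : ShortComplex (CohB1.ProjSpace n k).Modules :=
    ShortComplex.mk (kernel.ι q) q (kernel.condition q)
  have hE : E.ShortExact :=
    { exact := ShortComplex.exact_of_f_is_kernel _ (kernelIsKernel q)
      mono_f := inferInstanceAs (Mono (kernel.ι q))
      epi_g := inferInstanceAs (Epi q) }
  have hT := shortExact_tw n k E hE (-m)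
  let α : (∐ fun _ : Fin b => N) ≅
      (DCoh.tensorRightMod N).obj (∐ fun _ : Fin b => Coh.structureModule (CohB1.ProjSpace n k)) :=
    (Sigma.mapIso (fun _ : Fin b => (unitorL N).symm)) ≪≫
      (tensorRightModSigmaIso N
        (fun _ : Fin b => Coh.structureModule (CohB1.ProjSpace n k))).symm
  let β : tw n k (tw n k F m) (-m) ≅ F :=
    twTwIso' n k F m (-m) 0 (by ring) ≪≫ twZeroIso n k F
  let φ : (∐ fun _ : Fin b => N) ⟶ F := α.hom ≫ (DCoh.tensorRightMod N).map q ≫ β.hom
  haveI : Epi ((DCoh.tensorRightMod N).map q) := hT.epi_g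
  have hφ : Epi φ := by
    change Epi (α.hom ≫ (DCoh.tensorRightMod N).map q ≫ β.hom)
    infer_instance
  refine ⟨φ, hφ, ?_⟩
  -- the short exact sequence `0 → K(-m) → O(-m)^b → F → 0`
  let f' : tw n k (kernel q) (-m) ⟶ (∐ fun _ : Fin b => N) :=
    (DCoh.tensorRightMod N).map (kernel.ι q) ≫ α.inv
  have hzero : f' ≫ φ = 0 := by
    change ((DCoh.tensorRightMod N).map (kernel.ι q) ≫ α.inv) ≫
      (α.hom ≫ (DCoh.tensorRightMod N).map q ≫ β.hom) = 0
    rw [Category.assoc, Iso.inv_hom_id_assoc, ← Category.assoc, ← Functor.map_comp,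
      kernel.condition, Functor.map_zero, zero_comp]
  let E' : ShortComplex (CohB1.ProjSpace n k).Modules := ShortComplex.mk f' φ hzero
  let e : (E.map (DCoh.tensorRightMod N)) ≅ E' :=
    ShortComplex.isoMk (Iso.refl _) α.symm β
      (by
        change 𝟙 _ ≫ ((DCoh.tensorRightMod N).map (kernel.ι q) ≫ α.inv) =
          (DCoh.tensorRightMod N).map (kernel.ι q) ≫ α.inv
        rw [Category.id_comp])
      (by
        change α.inv ≫ (α.hom ≫ (DCoh.tensorRightMod N).map q ≫ β.hom) =
          (DCoh.tensorRightMod N).map q ≫ β.hom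
        rw [Iso.inv_hom_id_assoc])
  have hE' : E'.ShortExact := ShortComplex.shortExact_of_iso e hT
  have h1 : IsLimit (KernelFork.ofι E'.f E'.zero) := hE'.fIsKernel
  have h2 : IsLimit (KernelFork.ofι (kernel.ι φ) (kernel.condition φ)) := kernelIsKernel φ
  have e' : (KernelFork.ofι E'.f E'.zero).pt ≅
      (KernelFork.ofι (kernel.ι φ) (kernel.condition φ)).pt :=
    IsLimit.conePointUniqueUpToIso h1 h2
  exact ⟨e'⟩

/-- **S11301**, with global generation of `F(m)` (row S1647) as a hypothesis -/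
theorem isMRegular_iff_exists_epi (F : (CohB1.ProjSpace n k).Modules) (hF : Coh.IsCoh F) (m : ℤ)
    (hgg : Curv2.IsMRegular k n F m →
      Curv2.IsGloballyGenerated (CohB1.tensorMod F (Twist.twistProjSpace n k m))) :
    Curv2.IsMRegular k n F m ↔
      ∃ (b : ℕ) (φ : (∐ fun _ : Fin b => Twist.twistProjSpace n k (-m)) ⟶ F),
        Epi φ ∧ Curv2.IsMRegular k n (kernel φ) (m + 1) := by
  constructor
  · intro hreg
    have hfin : Module.Finite k (Coh.HH (CohB1.ProjSpace n k) (tw n k F m) 0) :=
      Groth.Agent.H95.SerreFin.finite_HH n k _ (isCoh_tw n k F hF m) 0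
    obtain ⟨b, x, hx⟩ := Module.Finite.exists_fin (R := k)
      (M := Coh.HH (CohB1.ProjSpace n k) (tw n k F m) 0)
    have hx' : Submodule.span (Coh.Γtop (CohB1.ProjSpace n k)) (Set.range x) = ⊤ := by
      rw [eq_top_iff]
      intro y _
      have hy : y ∈ Submodule.span k (Set.range x) := by rw [hx]; trivial
      refine Submodule.span_induction (p := fun y _ => y ∈ Submodule.span
        (Coh.Γtop (CohB1.ProjSpace n k)) (Set.range x)) ?_ ?_ ?_ ?_ hy
      · intro z hz
        exact Submodule.subset_span hz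
      · exact Submodule.zero_mem _
      · intro a c _ _ ha hc
        exact Submodule.add_mem _ ha hc
      · intro a z _ hz
        exact Submodule.smul_mem _
          (Coh.toGlobal (CohB1.ProjSpace n k ↘ Spec (CommRingCat.of k)) a) hz
    obtain ⟨q, hq⟩ := exists_pow_surjective_H0 (tw n k F m) b x hx'
    have : Epi q := epi_of_surjective_H0 (hgg hreg) q hq
    obtain ⟨φ, hφ, ⟨e⟩⟩ := exists_epi_pow_twist_kernel_iso n k F m b q
    exact ⟨b, φ, hφ, isMRegular_of_iso n k e (m + 1) (isMRegular_tw_kernel n k F m hreg b q hq)⟩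
  · rintro ⟨b, φ, hφ, hK⟩
    exact isMRegular_of_epi_pow n k F hF m b φ hK

end Groth.Agent.H56.Reg
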