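import Groth.Agent.H56.Reg.Twist
import Groth.Agent.H56.ProjDual.DegZero

/-!
helper56: surjectivity of `Γ(A) ⊗ Γ(B) → Γ(A ⊗ B)` (the shape of rows S11739/S19605) propagates
surjectivity on `H^0` along `- ⊗ B`.
-/

set_option autoImplicit false
universe u
open CategoryTheory CategoryTheory.Limits AlgebraicGeometry Opposite MonoidalCategory

namespace Groth.Agent.H56.Reg

open Groth.Agent.Lead.FiniteLES Groth.Agent.H18 Groth.Agent.H56.ProjDual

variable {X : Scheme.{u}}

/-- the canonical map `Γ(A) ⊗ Γ(B) → Γ(A ⊗ B)` is surjective (shape of row S11739) -/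
def MulSurj (A B : X.Modules) : Prop :=
  Function.Surjective
    ((toSheafify (Opens.grothendieckTopology X) (CohB1.tensorPre A B).presheaf).app (op ⊤))

/-- surjectivity on `H^0` is surjectivity on global sections -/
lemma surjective_app_top_iff {A A' : X.Modules} (g : A ⟶ A') :
    Function.Surjective (HHmap g 0) ↔ Function.Surjective (g.val.app (op ⊤)) := by
  constructor
  · intro h y
    obtain ⟨x, hx⟩ := h ((HH0.equiv A').symm y)
    refine ⟨HH0.equiv A x, ?_⟩
    rw [← equiv_HHmap, hx, AddEquiv.apply_symm_apply]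
  · intro h y
    obtain ⟨x, hx⟩ := h (HH0.equiv A' y)
    refine ⟨(HH0.equiv A).symm x, (HH0.equiv A').injective ?_⟩
    rw [equiv_HHmap, AddEquiv.apply_symm_apply, hx]

/-- the whiskered map of tensor presheaves -/
noncomputable def preMap {A A' : X.Modules} (B : X.Modules) (g : A ⟶ A') :
    CohB1.tensorPre A B ⟶ CohB1.tensorPre A' B :=
  (DCoh.toP.map g) ▷ (CohB1.toPMod B)

lemma tensorRightMod_map_eq {A A' : X.Modules} (B : X.Modules) (g : A ⟶ A') :
    (DCoh.tensorRightMod B).map g = DCoh.shP.map (preMap B g) := rfl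

lemma preMap_app_surjective {A A' : X.Modules} (B : X.Modules) (g : A ⟶ A')
    (hg : Function.Surjective (g.val.app (op ⊤))) :
    Function.Surjective ((preMap B g).app (op ⊤)) := by
  have h1 : (preMap B g).app (op ⊤) =
      MonoidalCategory.whiskerRight (C := ModuleCat (X.sheaf.obj.obj (op ⊤)))
        ((DCoh.toP.map g).app (op ⊤)) ((CohB1.toPMod B).obj (op ⊤)) := rfl
  rw [h1]
  exact LinearMap.rTensor_surjective _ hg

theorem surjective_H0_tensorRight {A A' : X.Modules} (B : X.Modules) (g : A ⟶ A')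
    (hg : Function.Surjective (HHmap g 0)) (hmul : MulSurj A' B) :
    Function.Surjective (HHmap ((DCoh.tensorRightMod B).map g) 0) := by
  rw [surjective_app_top_iff] at hg ⊢
  let adj := PresheafOfModules.sheafificationAdjunction (R := X.ringCatSheaf)
    (𝟙 X.ringCatSheaf.obj)
  have hnat := adj.unit.naturality (preMap B g)
  intro y
  obtain ⟨z, hz⟩ := hmul y
  obtain ⟨x, hx⟩ := preMap_app_surjective B g hg z
  have h2 := congrArg (fun φ => (φ.app (op ⊤)).hom x) hnat
  refine ⟨(adj.unit.app (CohB1.tensorPre A B)).app (op ⊤) x, ?_⟩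
  rw [tensorRightMod_map_eq]
  refine Eq.trans ?_ hz
  refine Eq.trans ?_ (congrArg _ hx)
  exact h2.symm

end Groth.Agent.H56.Reg
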