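import Groth.Agent.H56.Reg.Basic
import Groth.Agent.H56.Reg.MulSurj

/-!
helper56: Mumford's lemma on regularity of `F` from the regularity of `G = coker (F(-1) ↪ F)`
(row S11296), from the Castelnuovo–Mumford statements (rows S1642 and S11739) as hypotheses.
-/

set_option autoImplicit false
universe u
open CategoryTheory CategoryTheory.Limits AlgebraicGeometry Opposite

namespace Groth.Agent.H56.Reg

open Groth.Agent.Lead.FiniteLES Groth.Agent.H86.Serre

variable (n : ℕ) (k : Type u) [Field k]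

/-- shape of row S1642 -/
def HSucc : Prop :=
  ∀ F : (CohB1.ProjSpace n k).Modules, Coh.IsCoh F → ∀ m : ℤ,
    Curv2.IsMRegular k n F m → Curv2.IsMRegular k n F (m + 1)

/-- shape of row S11739 -/
def HMul : Prop :=
  ∀ F : (CohB1.ProjSpace n k).Modules, Coh.IsCoh F → ∀ m : ℤ, Curv2.IsMRegular k n F m →
    MulSurj (CohB1.tensorMod F (Twist.twistProjSpace n k m)) (Twist.twistProjSpace n k 1)

section Lin

variable {n k}

/-- the `k`-linear isomorphism on cohomology induced by an isomorphism of modules -/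
noncomputable def HHequiv {M N : (CohB1.ProjSpace n k).Modules} (e : M ≅ N) (i : ℕ) :
    Coh.HH (CohB1.ProjSpace n k) M i ≃ₗ[k] Coh.HH (CohB1.ProjSpace n k) N i :=
  LinearEquiv.ofLinear (toA k (HHmap e.hom i)) (toA k (HHmap e.inv i))
    (by
      ext x
      change HHmap e.hom i (HHmap e.inv i x) = x
      rw [← LinearMap.comp_apply, ← HHmap_comp, e.inv_hom_id, HHmap_id]
      rfl)
    (by
      ext x
      change HHmap e.inv i (HHmap e.hom i x) = x
      rw [← LinearMap.comp_apply, ← HHmap_comp, e.hom_inv_id, HHmap_id]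
      rfl)

lemma finrank_HH_of_iso {M N : (CohB1.ProjSpace n k).Modules} (e : M ≅ N) (i : ℕ) :
    Module.finrank k (Coh.HH (CohB1.ProjSpace n k) M i) =
      Module.finrank k (Coh.HH (CohB1.ProjSpace n k) N i) :=
  (HHequiv e i).finrank_eq

end Lin

variable {n k}

lemma isMRegular_of_le (hS : HSucc n k) (F : (CohB1.ProjSpace n k).Modules) (hF : Coh.IsCoh F)
    (m : ℤ) (h : Curv2.IsMRegular k n F m) (m' : ℤ) (hm : m ≤ m') : Curv2.IsMRegular k n F m' := by
  obtain ⟨d, rfl⟩ : ∃ d : ℕ, m' = m + d := ⟨(m' - m).toNat, by omega⟩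
  induction d with
  | zero => simpa using h
  | succ d ih =>
    have := hS F hF (m + d) (ih (by omega))
    have e : m + (d : ℤ) + 1 = m + ((d + 1 : ℕ) : ℤ) := by push_cast; ring
    rw [e] at this
    exact this

/-- `H^i(G(j)) = 0` for `i ≥ 1`, `j ≥ m - i`, `G` `m`-regular -/
lemma subsingleton_HH_of_isMRegular (hS : HSucc n k) (G : (CohB1.ProjSpace n k).Modules)
    (hG : Coh.IsCoh G) (m : ℤ) (h : Curv2.IsMRegular k n G m) (i : ℕ) (hi : 1 ≤ i) (j : ℤ)
    (hj : m - i ≤ j) : Subsingleton (Coh.HH (CohB1.ProjSpace n k) (tw n k G j) i) := by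
  by_cases hin : i ≤ n
  · have h1 := isMRegular_of_le hS G hG m h (j + i) (by omega) i hi hin
    have e : j + (i : ℤ) - i = j := by ring
    rw [e] at h1
    exact h1
  · exact subsingleton_HH_tw_of_gt n k G hG j i (by omega)

/-- `G(c)` is `(m - c)`-regular -/
lemma isMRegular_tw (G : (CohB1.ProjSpace n k).Modules) (m c : ℤ)
    (h : Curv2.IsMRegular k n G m) : Curv2.IsMRegular k n (tw n k G c) (m - c) := fun i hi1 hin =>
  subsingleton_of_iso (twTwIso' n k G c (m - c - i) (m - i) (by ring)).symm i (h i hi1 hin)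

end Groth.Agent.H56.Reg
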