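import Groth.Agent.H56.Reg.Mumford
import Groth.Agent.H56.Reg.LinRes

/-!
helper56: Mumford's lemma (row S11296), continued: the twisted sequences
`0 → F(j-1) → F(j) → G(j) → 0`, parts (i) and (ii), and the iterated sequences used for (iii).
-/

set_option autoImplicit false
set_option linter.style.haveILetI false
universe u
open CategoryTheory CategoryTheory.Limits AlgebraicGeometry Opposite

namespace Groth.Agent.H56.Reg

open Groth.Agent.Lead.FiniteLES Groth.Agent.H86.Serre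

section General

variable {X : Scheme.{u}}

/-- `H^q(X₁) → H^q(X₂)` is surjective if `H^q(X₃) = 0` -/
lemma surjective_HHmap_f (E : ShortComplex X.Modules) (hE : E.ShortExact) (q : ℕ)
    (h₃ : Subsingleton (Coh.HH X E.X₃ q)) : Function.Surjective (HHmap E.f q) := by
  rw [← LinearMap.range_eq_top, ← ker_HHmap_g E hE q, LinearMap.ker_eq_top]
  exact LinearMap.ext fun x => Subsingleton.elim _ _

/-- `H^0(X₂) → H^0(X₃)` is surjective iff `H^1(X₁) → H^1(X₂)` is injective -/
lemma surjective_g_zero_iff_injective_f_one (E : ShortComplex X.Modules) (hE : E.ShortExact) :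
    Function.Surjective (HHmap E.g 0) ↔ Function.Injective (HHmap E.f (0 + 1)) := by
  rw [← LinearMap.range_eq_top, ← ker_HHδ E hE 0, ← LinearMap.ker_eq_bot,
    ker_HHmap_f_succ E hE 0, LinearMap.ker_eq_top, LinearMap.range_eq_bot]

end General

variable {n : ℕ} {k : Type u} [Field k]

/-- the sequence `0 → F(-1) → F → G → 0` -/
noncomputable def cokerSeq (F : (CohB1.ProjSpace n k).Modules)
    (ι : tw n k F (-1) ⟶ F) : ShortComplex (CohB1.ProjSpace n k).Modules :=
  ShortComplex.mk ι (cokernel.π ι) (cokernel.condition ι)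

lemma cokerSeq_shortExact (F : (CohB1.ProjSpace n k).Modules)
    (ι : tw n k F (-1) ⟶ F) [Mono ι] : (cokerSeq F ι).ShortExact :=
  { exact := ShortComplex.exact_of_g_is_cokernel _ (cokernelIsCokernel ι)
    mono_f := inferInstanceAs (Mono ι)
    epi_g := inferInstanceAs (Epi (cokernel.π ι)) }

/-- the twisted sequence `0 → F(-1)(j) → F(j) → G(j) → 0` -/
noncomputable def twSeq (F : (CohB1.ProjSpace n k).Modules)
    (ι : tw n k F (-1) ⟶ F) (j : ℤ) : ShortComplex (CohB1.ProjSpace n k).Modules :=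
  (cokerSeq F ι).map (DCoh.tensorRightMod (Twist.twistProjSpace n k j))

lemma twSeq_shortExact (F : (CohB1.ProjSpace n k).Modules)
    (ι : tw n k F (-1) ⟶ F) [Mono ι] (j : ℤ) : (twSeq F ι j).ShortExact :=
  shortExact_tw n k _ (cokerSeq_shortExact F ι) j

/-- `F(-1)(j) ≅ F(j-1)` -/
noncomputable def twSeqX₁Iso (F : (CohB1.ProjSpace n k).Modules)
    (ι : tw n k F (-1) ⟶ F) (j : ℤ) : (twSeq F ι j).X₁ ≅ tw n k F (j - 1) :=
  twTwIso' n k F (-1) j (j - 1) (by ring)

lemma twSeq_X₂ (F : (CohB1.ProjSpace n k).Modules)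
    (ι : tw n k F (-1) ⟶ F) (j : ℤ) : (twSeq F ι j).X₂ = tw n k F j := rfl

lemma twSeq_X₃ (F : (CohB1.ProjSpace n k).Modules)
    (ι : tw n k F (-1) ⟶ F) (j : ℤ) : (twSeq F ι j).X₃ = tw n k (cokernel ι) j := rfl

lemma isCoh_cokernel_ι (F : (CohB1.ProjSpace n k).Modules) (hF : Coh.IsCoh F)
    (ι : tw n k F (-1) ⟶ F) : Coh.IsCoh (cokernel ι) :=
  Groth.Agent.S0026.isCoh_cokernel _ _ ι (isCoh_tw n k F hF (-1)) hF

/-- Serre vanishing, for `tw` -/
lemma exists_vanishing (F : (CohB1.ProjSpace n k).Modules) (hF : Coh.IsCoh F) :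
    ∃ m₀ : ℤ, ∀ j : ℤ, m₀ ≤ j → ∀ q : ℕ, 0 < q →
      Subsingleton (Coh.HH (CohB1.ProjSpace n k) (tw n k F j) q) :=
  serre_vanishing n k F hF

/-- **Mumford's lemma (i)** -/
theorem mumford_i (hS : HSucc n k) (F : (CohB1.ProjSpace n k).Modules) (hF : Coh.IsCoh F)
    (ι : tw n k F (-1) ⟶ F) [Mono ι] (m : ℤ) (hG : Curv2.IsMRegular k n (cokernel ι) m)
    (i : ℕ) (j : ℤ) (hi : 2 ≤ i) (hj : m - i ≤ j) :
    Subsingleton (Coh.HH (CohB1.ProjSpace n k) (tw n k F j) i) := by
  obtain ⟨m₀, hm₀⟩ := exists_vanishing F hF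
  have key : ∀ (N : ℕ) (j : ℤ), m - i ≤ j → m₀ ≤ j + N →
      Subsingleton (Coh.HH (CohB1.ProjSpace n k) (tw n k F j) i) := by
    intro N
    induction N with
    | zero =>
      intro j _ hj0
      exact hm₀ j (by simpa using hj0) i (by omega)
    | succ N ih =>
      intro j hj hjN
      have h2 := ih (j + 1) (by omega) (by push_cast at hjN; omega)
      obtain ⟨i', rfl⟩ : ∃ i' : ℕ, i = i' + 1 := ⟨i - 1, by omega⟩
      have h3 : Subsingleton (Coh.HH (CohB1.ProjSpace n k) (twSeq F ι (j + 1)).X₃ i') :=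
        subsingleton_HH_of_isMRegular hS (cokernel ι) (isCoh_cokernel_ι F hF ι) m hG i'
          (by omega) (j + 1) (by push_cast at hj; omega)
      have h1 := subsingleton_X₁_succ (twSeq F ι (j + 1)) (twSeq_shortExact F ι (j + 1)) i' h3 h2
      refine subsingleton_of_iso (twSeqX₁Iso F ι (j + 1) ≪≫ twCongr n k F (by ring)) (i' + 1) h1
  exact key (m₀ - j).toNat j hj (by omega)

/-- **Mumford's lemma (ii)** -/
theorem mumford_ii (hS : HSucc n k) (F : (CohB1.ProjSpace n k).Modules) (hF : Coh.IsCoh F)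
    (ι : tw n k F (-1) ⟶ F) [Mono ι] (m : ℤ) (hG : Curv2.IsMRegular k n (cokernel ι) m)
    (j : ℤ) (hj : m - 1 ≤ j) :
    Module.finrank k (Coh.HH (CohB1.ProjSpace n k) (tw n k F j) 1) ≤
      Module.finrank k (Coh.HH (CohB1.ProjSpace n k) (tw n k F (j - 1)) 1) := by
  have h3 : Subsingleton (Coh.HH (CohB1.ProjSpace n k) (twSeq F ι j).X₃ 1) :=
    subsingleton_HH_of_isMRegular hS (cokernel ι) (isCoh_cokernel_ι F hF ι) m hG 1
      le_rfl j (by push_cast; omega)
  have hsurj := surjective_HHmap_f (twSeq F ι j) (twSeq_shortExact F ι j) 1 h3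
  rw [← finrank_HH_of_iso (twSeqX₁Iso F ι j) 1]
  haveI : Module.Finite k (Coh.HH (CohB1.ProjSpace n k) (twSeq F ι j).X₁ 1) :=
    Groth.Agent.H95.SerreFin.finite_HH n k _
      (isCoh_tw n k _ (isCoh_tw n k F hF (-1)) j) 1
  exact LinearMap.finrank_le_finrank_of_surjective (f := toA k (HHmap (twSeq F ι j).f 1)) hsurj

end Groth.Agent.H56.Reg
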