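import Groth.Agent.H56.Reg.Mumford2

/-!
helper56: Mumford's lemma (row S11296), part (iii): `h^1(F(j))` is strictly decreasing until it
vanishes, for `j ≥ m - 1`.
-/

set_option autoImplicit false
set_option linter.style.haveILetI false
universe u
open CategoryTheory CategoryTheory.Limits AlgebraicGeometry Opposite

namespace Groth.Agent.H56.Reg

open Groth.Agent.Lead.FiniteLES Groth.Agent.H86.Serre

variable {n : ℕ} {k : Type u} [Field k]

/-- iterated twisting by `O(1)` of a short complex -/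
noncomputable def Sit (S₀ : ShortComplex (CohB1.ProjSpace n k).Modules) :
    ℕ → ShortComplex (CohB1.ProjSpace n k).Modules
  | 0 => S₀
  | t + 1 => (Sit S₀ t).map (DCoh.tensorRightMod (Twist.twistProjSpace n k 1))

lemma Sit_shortExact (S₀ : ShortComplex (CohB1.ProjSpace n k).Modules) (h : S₀.ShortExact) :
    ∀ t : ℕ, (Sit S₀ t).ShortExact
  | 0 => h
  | t + 1 => shortExact_tw n k _ (Sit_shortExact S₀ h t) 1

lemma nonempty_Sit_iso (S₀ : ShortComplex (CohB1.ProjSpace n k).Modules)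
    {M₁ M₂ M₃ : (CohB1.ProjSpace n k).Modules} (c₁ c₂ c₃ : ℤ)
    (e₁ : S₀.X₁ ≅ tw n k M₁ c₁) (e₂ : S₀.X₂ ≅ tw n k M₂ c₂) (e₃ : S₀.X₃ ≅ tw n k M₃ c₃) (t : ℕ) :
    Nonempty ((Sit S₀ t).X₁ ≅ tw n k M₁ (c₁ + t)) ∧ Nonempty ((Sit S₀ t).X₂ ≅ tw n k M₂ (c₂ + t)) ∧
      Nonempty ((Sit S₀ t).X₃ ≅ tw n k M₃ (c₃ + t)) := by
  induction t with
  | zero =>
    exact ⟨⟨e₁ ≪≫ twCongr n k M₁ (by simp)⟩, ⟨e₂ ≪≫ twCongr n k M₂ (by simp)⟩,
      ⟨e₃ ≪≫ twCongr n k M₃ (by simp)⟩⟩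
  | succ t ih =>
    obtain ⟨⟨f₁⟩, ⟨f₂⟩, ⟨f₃⟩⟩ := ih
    refine ⟨⟨?_⟩, ⟨?_⟩, ⟨?_⟩⟩
    · exact tensorIsoLeft f₁ (Twist.twistProjSpace n k 1) ≪≫
        twTwIso' n k M₁ (c₁ + t) 1 (c₁ + (t + 1 : ℕ)) (by push_cast; ring)
    · exact tensorIsoLeft f₂ (Twist.twistProjSpace n k 1) ≪≫
        twTwIso' n k M₂ (c₂ + t) 1 (c₂ + (t + 1 : ℕ)) (by push_cast; ring)
    · exact tensorIsoLeft f₃ (Twist.twistProjSpace n k 1) ≪≫
        twTwIso' n k M₃ (c₃ + t) 1 (c₃ + (t + 1 : ℕ)) (by push_cast; ring)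

/-- a nonincreasing sequence of naturals that can only stall at `0` vanishes from `a 0` on -/
lemma nat_seq_vanish (a : ℕ → ℕ) (hmono : ∀ t, a (t + 1) ≤ a t)
    (hkey : ∀ t, a (t + 1) = a t → a t = 0) : ∀ t, a 0 ≤ t → a t = 0 := by
  have key : ∀ t, a t + t ≤ a 0 ∨ a t = 0 := by
    intro t
    induction t with
    | zero => exact Or.inl le_rfl
    | succ t ih =>
      by_cases h : a (t + 1) = a t
      · right
        rw [h]
        exact hkey t h
      · have hlt : a (t + 1) < a t := lt_of_le_of_ne (hmono t) h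
        rcases ih with h1 | h1
        · left; omega
        · right; omega
  intro t ht
  rcases key t with h | h
  · omega
  · exact h

/-- **Mumford's lemma (iii)**, in terms of `t = j - (m - 1)` -/
theorem mumford_iii_aux (hS : HSucc n k) (hM : HMul n k) (F : (CohB1.ProjSpace n k).Modules)
    (hF : Coh.IsCoh F) (ι : tw n k F (-1) ⟶ F) [Mono ι] (m : ℤ)
    (hG : Curv2.IsMRegular k n (cokernel ι) m) (t : ℕ)
    (ht : Module.finrank k (Coh.HH (CohB1.ProjSpace n k) (tw n k F (m - 1)) 1) ≤ t) :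
    Subsingleton (Coh.HH (CohB1.ProjSpace n k) (tw n k F (m - 1 + t)) 1) := by
  have hGc := isCoh_cokernel_ι F hF ι
  have hex : ∀ t, (Sit (twSeq F ι (m - 1)) t).ShortExact :=
    Sit_shortExact _ (twSeq_shortExact F ι (m - 1))
  have hiso := nonempty_Sit_iso (twSeq F ι (m - 1)) (M₁ := F) (M₂ := F) (M₃ := cokernel ι)
    (m - 2) (m - 1) (m - 1)
    (twSeqX₁Iso F ι (m - 1) ≪≫ twCongr n k F (by ring)) (Iso.refl _) (Iso.refl _)
  -- coherence
  have hc₁ : ∀ t, Coh.IsCoh (Sit (twSeq F ι (m - 1)) t).X₁ := fun t => by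
    obtain ⟨⟨e⟩, -, -⟩ := hiso t
    exact Groth.Agent.S0026.isCoh_iso _ _ e.symm (isCoh_tw n k F hF _)
  have hc₂ : ∀ t, Coh.IsCoh (Sit (twSeq F ι (m - 1)) t).X₂ := fun t => by
    obtain ⟨-, ⟨e⟩, -⟩ := hiso t
    exact Groth.Agent.S0026.isCoh_iso _ _ e.symm (isCoh_tw n k F hF _)
  have hc₃ : ∀ t, Coh.IsCoh (Sit (twSeq F ι (m - 1)) t).X₃ := fun t => by
    obtain ⟨-, -, ⟨e⟩⟩ := hiso t
    exact Groth.Agent.S0026.isCoh_iso _ _ e.symm (isCoh_tw n k _ hGc _)
  have hfin₁ : ∀ t, Module.Finite k (Coh.HH (CohB1.ProjSpace n k)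
      (Sit (twSeq F ι (m - 1)) t).X₁ 1) := fun t =>
    Groth.Agent.H95.SerreFin.finite_HH n k _ (hc₁ t) 1
  have hfin₂ : ∀ t, Module.Finite k (Coh.HH (CohB1.ProjSpace n k)
      (Sit (twSeq F ι (m - 1)) t).X₂ 1) := fun t =>
    Groth.Agent.H95.SerreFin.finite_HH n k _ (hc₂ t) 1
  -- `H^1(G(j)) = 0`
  have h31 : ∀ t, Subsingleton (Coh.HH (CohB1.ProjSpace n k)
      (Sit (twSeq F ι (m - 1)) t).X₃ 1) := fun t => by
    obtain ⟨-, -, ⟨e⟩⟩ := hiso t
    exact subsingleton_of_iso e.symm 1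
      (subsingleton_HH_of_isMRegular hS _ hGc m hG 1 le_rfl _ (by push_cast; omega))
  have hsurj : ∀ t, Function.Surjective (HHmap (Sit (twSeq F ι (m - 1)) t).f 1) := fun t =>
    surjective_HHmap_f _ (hex t) 1 (h31 t)
  have hX₁ : ∀ t, Module.finrank k (Coh.HH (CohB1.ProjSpace n k)
      (Sit (twSeq F ι (m - 1)) (t + 1)).X₁ 1) =
      Module.finrank k (Coh.HH (CohB1.ProjSpace n k) (Sit (twSeq F ι (m - 1)) t).X₂ 1) := fun t => by
    obtain ⟨⟨e₁⟩, -, -⟩ := hiso (t + 1)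
    obtain ⟨-, ⟨e₂⟩, -⟩ := hiso t
    exact finrank_HH_of_iso (e₁ ≪≫ twCongr n k F (by push_cast; ring) ≪≫ e₂.symm) 1
  have hreg : ∀ t, Curv2.IsMRegular k n (Sit (twSeq F ι (m - 1)) t).X₃ 1 := fun t => by
    obtain ⟨-, -, ⟨e⟩⟩ := hiso t
    refine isMRegular_of_iso n k e.symm 1 ?_
    have h1 := isMRegular_tw (cokernel ι) m (m - 1 + t) hG
    exact isMRegular_of_le hS _ (isCoh_tw n k _ hGc _) _ h1 1 (by omega)
  have hmul : ∀ t, MulSurj (Sit (twSeq F ι (m - 1)) (t + 1)).X₃ (Twist.twistProjSpace n k 1) :=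
    fun t => hM _ (hc₃ t) 1 (hreg t)
  have hstep : ∀ t, Function.Surjective (HHmap (Sit (twSeq F ι (m - 1)) (t + 1)).g 0) →
      Function.Surjective (HHmap (Sit (twSeq F ι (m - 1)) (t + 1 + 1)).g 0) := fun t h =>
    surjective_H0_tensorRight (Twist.twistProjSpace n k 1) (Sit (twSeq F ι (m - 1)) (t + 1)).g h
      (hmul t)
  have hmono : ∀ t, Module.finrank k (Coh.HH (CohB1.ProjSpace n k)
      (Sit (twSeq F ι (m - 1)) (t + 1)).X₂ 1) ≤
      Module.finrank k (Coh.HH (CohB1.ProjSpace n k) (Sit (twSeq F ι (m - 1)) t).X₂ 1) := fun t => by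
    haveI := hfin₁ (t + 1)
    have := LinearMap.finrank_le_finrank_of_surjective
      (f := toA k (HHmap (Sit (twSeq F ι (m - 1)) (t + 1)).f 1)) (hsurj (t + 1))
    rw [hX₁ t] at this
    exact this
  have hP : ∀ t, Module.finrank k (Coh.HH (CohB1.ProjSpace n k)
      (Sit (twSeq F ι (m - 1)) (t + 1)).X₂ 1) =
      Module.finrank k (Coh.HH (CohB1.ProjSpace n k) (Sit (twSeq F ι (m - 1)) t).X₂ 1) →
      Function.Surjective (HHmap (Sit (twSeq F ι (m - 1)) (t + 1)).g 0) := fun t h => by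
    rw [surjective_g_zero_iff_injective_f_one _ (hex (t + 1))]
    haveI := hfin₁ (t + 1)
    haveI := hfin₂ (t + 1)
    have heq := (hX₁ t).trans h.symm
    exact (LinearMap.injective_iff_surjective_of_finrank_eq_finrank heq
      (f := toA k (HHmap (Sit (twSeq F ι (m - 1)) (t + 1)).f 1))).mpr (hsurj (t + 1))
  have hPall : ∀ t, Function.Surjective (HHmap (Sit (twSeq F ι (m - 1)) (t + 1)).g 0) →
      ∀ s, Function.Surjective (HHmap (Sit (twSeq F ι (m - 1)) (t + s + 1)).g 0) := by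
    intro t h s
    induction s with
    | zero => exact h
    | succ s ih => exact hstep (t + s) ih
  have hinj_eq : ∀ u, Function.Surjective (HHmap (Sit (twSeq F ι (m - 1)) (u + 1)).g 0) →
      Module.finrank k (Coh.HH (CohB1.ProjSpace n k) (Sit (twSeq F ι (m - 1)) (u + 1)).X₂ 1) =
      Module.finrank k (Coh.HH (CohB1.ProjSpace n k) (Sit (twSeq F ι (m - 1)) u).X₂ 1) := fun u h => by
    refine le_antisymm (hmono u) ?_
    rw [surjective_g_zero_iff_injective_f_one _ (hex (u + 1))] at h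
    haveI := hfin₂ (u + 1)
    have := LinearMap.finrank_le_finrank_of_injective
      (f := toA k (HHmap (Sit (twSeq F ι (m - 1)) (u + 1)).f 1)) h
    rw [hX₁ u] at this
    exact this
  have hvan : ∃ T : ℕ, ∀ u, T ≤ u → Module.finrank k (Coh.HH (CohB1.ProjSpace n k)
      (Sit (twSeq F ι (m - 1)) u).X₂ 1) = 0 := by
    obtain ⟨m₀, hm₀⟩ := exists_vanishing F hF
    refine ⟨(m₀ - (m - 1)).toNat, fun u hu => ?_⟩
    obtain ⟨-, ⟨e⟩, -⟩ := hiso u
    haveI : Subsingleton (Coh.HH (CohB1.ProjSpace n k) (Sit (twSeq F ι (m - 1)) u).X₂ 1) :=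
      subsingleton_of_iso e.symm 1 (hm₀ _ (by omega) 1 one_pos)
    exact Module.finrank_zero_of_subsingleton
  have hkey : ∀ t, Module.finrank k (Coh.HH (CohB1.ProjSpace n k)
      (Sit (twSeq F ι (m - 1)) (t + 1)).X₂ 1) =
      Module.finrank k (Coh.HH (CohB1.ProjSpace n k) (Sit (twSeq F ι (m - 1)) t).X₂ 1) →
      Module.finrank k (Coh.HH (CohB1.ProjSpace n k) (Sit (twSeq F ι (m - 1)) t).X₂ 1) = 0 := by
    intro t h
    have hall := hPall t (hP t h)
    have hconst : ∀ s, Module.finrank k (Coh.HH (CohB1.ProjSpace n k)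
        (Sit (twSeq F ι (m - 1)) (t + s)).X₂ 1) =
        Module.finrank k (Coh.HH (CohB1.ProjSpace n k) (Sit (twSeq F ι (m - 1)) t).X₂ 1) := by
      intro s
      induction s with
      | zero => rfl
      | succ s ih => exact (hinj_eq (t + s) (hall s)).trans ih
    obtain ⟨T, hT⟩ := hvan
    rw [← hconst T]
    exact hT _ (by omega)
  have h0 := nat_seq_vanish (fun t => Module.finrank k (Coh.HH (CohB1.ProjSpace n k)
      (Sit (twSeq F ι (m - 1)) t).X₂ 1)) hmono hkey t ht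
  obtain ⟨-, ⟨e⟩, -⟩ := hiso t
  haveI := hfin₂ t
  have hsub : Subsingleton (Coh.HH (CohB1.ProjSpace n k) (Sit (twSeq F ι (m - 1)) t).X₂ 1) :=
    (Module.finrank_eq_zero_iff_of_free k _).mp h0
  exact subsingleton_of_iso e 1 hsub

/-- **Mumford's lemma** (row S11296), from the Castelnuovo–Mumford statements `HSucc` (row S1642)
and `HMul` (row S11739) -/
theorem mumford (hS : HSucc n k) (hM : HMul n k) (F : (CohB1.ProjSpace n k).Modules)
    (hF : Coh.IsCoh F) (ι : CohB1.tensorMod F (Twist.twistProjSpace n k (-1)) ⟶ F) [Mono ι] (m : ℤ)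
    (hG : Curv2.IsMRegular k n (cokernel ι) m) :
    (∀ (i : ℕ) (j : ℤ), 2 ≤ i → m - i ≤ j →
        Subsingleton (Coh.HH (CohB1.ProjSpace n k) (CohB1.tensorMod F (Twist.twistProjSpace n k j)) i)) ∧
    (∀ j : ℤ, m - 1 ≤ j →
        Module.finrank k (Coh.HH (CohB1.ProjSpace n k) (CohB1.tensorMod F (Twist.twistProjSpace n k j)) 1) ≤
          Module.finrank k (Coh.HH (CohB1.ProjSpace n k) (CohB1.tensorMod F (Twist.twistProjSpace n k (j - 1))) 1)) ∧
    (∀ j : ℤ, m - 1 + (Module.finrank k (Coh.HH (CohB1.ProjSpace n k)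
          (CohB1.tensorMod F (Twist.twistProjSpace n k (m - 1))) 1) : ℤ) ≤ j →
        Subsingleton (Coh.HH (CohB1.ProjSpace n k) (CohB1.tensorMod F (Twist.twistProjSpace n k j)) 1)) ∧
    Curv2.IsMRegular k n F (m + Module.finrank k (Coh.HH (CohB1.ProjSpace n k)
        (CohB1.tensorMod F (Twist.twistProjSpace n k (m - 1))) 1)) := by
  have h1 : ∀ (i : ℕ) (j : ℤ), 2 ≤ i → m - i ≤ j →
      Subsingleton (Coh.HH (CohB1.ProjSpace n k) (CohB1.tensorMod F (Twist.twistProjSpace n k j)) i) :=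
    fun i j hi hj => mumford_i hS F hF ι m hG i j hi hj
  have h3 : ∀ j : ℤ, m - 1 + (Module.finrank k (Coh.HH (CohB1.ProjSpace n k)
        (CohB1.tensorMod F (Twist.twistProjSpace n k (m - 1))) 1) : ℤ) ≤ j →
      Subsingleton (Coh.HH (CohB1.ProjSpace n k) (CohB1.tensorMod F (Twist.twistProjSpace n k j)) 1) := by
    intro j hj
    have ht : Module.finrank k (Coh.HH (CohB1.ProjSpace n k)
        (CohB1.tensorMod F (Twist.twistProjSpace n k (m - 1))) 1) ≤ (j - (m - 1)).toNat := by omega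
    have h := mumford_iii_aux hS hM F hF ι m hG (j - (m - 1)).toNat ht
    have e : m - 1 + ((j - (m - 1)).toNat : ℤ) = j := by omega
    rw [e] at h
    exact h
  refine ⟨h1, fun j hj => mumford_ii hS F hF ι m hG j hj, h3, ?_⟩
  intro i hi1 hin
  by_cases hi2 : 2 ≤ i
  · exact h1 i _ hi2 (by omega)
  · obtain rfl : i = 1 := by omega
    exact h3 _ (by push_cast; omega)

end Groth.Agent.H56.Reg
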