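import Groth.Agent.H86.Serre.Main
import Groth.Agent.H66.ProjCohQuot
import Groth.Prelude.Def_Curv2

/-!
helper56: toolkit for Castelnuovo–Mumford regularity on `P^n_k`: twists `F(j) = F ⊗ O(j)`, the
isomorphisms `F(a)(b) ≅ F(a+b)`, `F(0) ≅ F`, exactness of twisting, and the vanishing chases in the
long exact cohomology sequence.
-/

set_option autoImplicit false
universe u
open CategoryTheory CategoryTheory.Limits AlgebraicGeometry

namespace Groth.Agent.H56.Reg

open Groth.Agent.Lead.FiniteLES Groth.Agent.H86.Serre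

section General

variable {X : Scheme.{u}}

/-- `H^{n+1}(X₁) = 0` if `H^n(X₃) = 0` and `H^{n+1}(X₂) = 0` -/
lemma subsingleton_X₁_succ (E : ShortComplex X.Modules) (hE : E.ShortExact) (n : ℕ)
    (h₃ : Subsingleton (Coh.HH X E.X₃ n)) (h₂ : Subsingleton (Coh.HH X E.X₂ (n + 1))) :
    Subsingleton (Coh.HH X E.X₁ (n + 1)) := by
  refine subsingleton_of_forall_eq 0 (fun x => ?_)
  have hx : x ∈ LinearMap.ker (HHmap E.f (n + 1)) := by
    rw [LinearMap.mem_ker]
    exact Subsingleton.elim _ _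
  rw [ker_HHmap_f_succ E hE n] at hx
  obtain ⟨y, rfl⟩ := hx
  rw [Subsingleton.elim y 0, map_zero]

/-- `H^1(X₁) = 0` if `H^0(X₂) → H^0(X₃)` is surjective and `H^1(X₂) = 0` -/
lemma subsingleton_X₁_one (E : ShortComplex X.Modules) (hE : E.ShortExact)
    (hsurj : Function.Surjective (HHmap E.g 0)) (h₂ : Subsingleton (Coh.HH X E.X₂ 1)) :
    Subsingleton (Coh.HH X E.X₁ 1) := by
  refine subsingleton_of_forall_eq 0 (fun x => ?_)
  have hx : x ∈ LinearMap.ker (HHmap E.f (0 + 1)) := by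
    rw [LinearMap.mem_ker]
    exact Subsingleton.elim _ _
  rw [ker_HHmap_f_succ E hE 0] at hx
  obtain ⟨y, rfl⟩ := hx
  obtain ⟨z, rfl⟩ := hsurj y
  have hz : HHmap E.g 0 z ∈ LinearMap.ker (HHδ E hE 0) := by
    rw [ker_HHδ E hE 0]
    exact ⟨z, rfl⟩
  exact hz

/-- `H^n(X₂) = 0` if `H^n(X₁) = 0` and `H^n(X₃) = 0` -/
lemma subsingleton_X₂ (E : ShortComplex X.Modules) (hE : E.ShortExact) (n : ℕ)
    (h₁ : Subsingleton (Coh.HH X E.X₁ n)) (h₃ : Subsingleton (Coh.HH X E.X₃ n)) :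
    Subsingleton (Coh.HH X E.X₂ n) := by
  refine subsingleton_of_forall_eq 0 (fun x => ?_)
  have hx : x ∈ LinearMap.ker (HHmap E.g n) := by
    rw [LinearMap.mem_ker]
    exact Subsingleton.elim _ _
  rw [ker_HHmap_g E hE n] at hx
  obtain ⟨y, rfl⟩ := hx
  rw [Subsingleton.elim y 0, map_zero]

/-- `H^n(X₂) → H^n(X₃)` is surjective if `H^{n+1}(X₁) = 0` -/
lemma surjective_HHmap_g (E : ShortComplex X.Modules) (hE : E.ShortExact) (n : ℕ)
    (h₁ : Subsingleton (Coh.HH X E.X₁ (n + 1))) : Function.Surjective (HHmap E.g n) := by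
  rw [← LinearMap.range_eq_top, ← ker_HHδ E hE n, LinearMap.ker_eq_top]
  exact LinearMap.ext fun x => Subsingleton.elim _ _

/-- the iso `F ⊗ L ≅ G ⊗ L` induced by `F ≅ G` -/
noncomputable def tensorIsoLeft {F G : X.Modules} (e : F ≅ G) (L : X.Modules) :
    CohB1.tensorMod F L ≅ CohB1.tensorMod G L :=
  (DCoh.tensorRightMod L).mapIso e

/-- the iso `F ⊗ L ≅ F ⊗ L'` induced by `L ≅ L'` -/
noncomputable def tensorIsoRight (F : X.Modules) {L L' : X.Modules} (e : L ≅ L') :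
    CohB1.tensorMod F L ≅ CohB1.tensorMod F L' :=
  ((DCoh.tensorBi (X := X)).obj F).mapIso e

end General

section Proj

variable (n : ℕ) (k : Type u) [CommRing k]

/-- `F(j) = F ⊗ O(j)` -/
noncomputable abbrev tw (F : (CohB1.ProjSpace n k).Modules) (j : ℤ) : (CohB1.ProjSpace n k).Modules :=
  CohB1.tensorMod F (Twist.twistProjSpace n k j)

/-- `F(a)(b) ≅ F(a + b)` -/
noncomputable def twTwIso (F : (CohB1.ProjSpace n k).Modules) (a b : ℤ) :
    tw n k (tw n k F a) b ≅ tw n k F (a + b) :=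
  Groth.Agent.H18.ResProp.tensorModAssoc F _ _ ≪≫
    tensorIsoRight F (nonempty_twistBy_twist_iso n k a b).some

/-- `F(0) ≅ F` -/
noncomputable def twZeroIso (F : (CohB1.ProjSpace n k).Modules) : tw n k F 0 ≅ F :=
  tensorIsoRight F (Groth.Agent.H18.nonempty_twist_zero_iso (CohB1.polyGrading n k)).some ≪≫
    SecTwist.unitorR F

/-- `F(a) ≅ F(b)` for `a = b` -/
noncomputable def twCongr (F : (CohB1.ProjSpace n k).Modules) {a b : ℤ} (h : a = b) :
    tw n k F a ≅ tw n k F b := eqToIso (by rw [h])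

/-- `F(a)(b) ≅ F(c)` for `a + b = c` -/
noncomputable def twTwIso' (F : (CohB1.ProjSpace n k).Modules) (a b c : ℤ) (h : a + b = c) :
    tw n k (tw n k F a) b ≅ tw n k F c :=
  twTwIso n k F a b ≪≫ twCongr n k F h

/-- `O(a)(b) ≅ O(a + b)` -/
noncomputable def twOIso (a b c : ℤ) (h : a + b = c) :
    tw n k (Twist.twistProjSpace n k a) b ≅ Twist.twistProjSpace n k c :=
  (nonempty_twistBy_twist_iso n k a b).some ≪≫ eqToIso (by rw [h]; rfl)

/-- twisting is exact -/
lemma shortExact_tw (S : ShortComplex (CohB1.ProjSpace n k).Modules) (hS : S.ShortExact) (j : ℤ) :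
    (S.map (DCoh.tensorRightMod (Twist.twistProjSpace n k j))).ShortExact :=
  shortExact_map_tensorRightMod _ (isInvertible_twist n k j) S hS

lemma isCoh_tw (F : (CohB1.ProjSpace n k).Modules) (hF : Coh.IsCoh F) (j : ℤ) :
    Coh.IsCoh (tw n k F j) :=
  isCoh_twistBy n k F hF j

/-- vanishing of the cohomology of `O(a)(b)` -/
lemma subsingleton_HH_twO (a b : ℤ) (q : ℕ) (h₀ : ¬ (q = 0 ∧ 0 ≤ a + b))
    (hn : ¬ (q = n ∧ a + b ≤ -((n : ℤ) + 1))) :
    Subsingleton (Coh.HH (CohB1.ProjSpace n k) (tw n k (Twist.twistProjSpace n k a) b) q) :=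
  subsingleton_of_iso (twOIso n k a b (a + b) rfl).symm q
    (Groth.Agent.S0844.result k n (a + b) q h₀ hn)

/-- vanishing of the cohomology of `(O(a)^r)(b)` -/
lemma subsingleton_HH_tw_pow (a b : ℤ) (r : ℕ) (q : ℕ) (h₀ : ¬ (q = 0 ∧ 0 ≤ a + b))
    (hn : ¬ (q = n ∧ a + b ≤ -((n : ℤ) + 1))) :
    Subsingleton (Coh.HH (CohB1.ProjSpace n k)
      (tw n k (∐ fun _ : Fin r => Twist.twistProjSpace n k a) b) q) := by
  refine subsingleton_of_iso (tensorRightModSigmaIso (Twist.twistProjSpace n k b)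
    (fun _ : Fin r => Twist.twistProjSpace n k a)).symm q ?_
  exact subsingleton_sigma _ q (fun _ => subsingleton_HH_twO n k a b q h₀ hn)

end Proj

end Groth.Agent.H56.Reg
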